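import Mathlib
import Groth.Agent.PointBC.Basic

/-!
Unramified morphisms and geometric fibres.
-/

set_option autoImplicit false
set_option linter.style.haveILetI false
set_option backward.isDefEq.respectTransparency false

universe u

open CategoryTheory Limits AlgebraicGeometry TopologicalSpace

namespace Groth.Agent.GeomUnrLib

theorem isReduced_of_unramified {K : Type u} [Field K] {Z : Scheme.{u}} (p : Z ⟶ Spec (CommRingCat.of K))
    [FormallyUnramified p] [LocallyOfFiniteType p] : IsReduced Z := by
  haveI : ∀ z : Z, _root_.IsReduced (Z.presheaf.stalk z) := fun z => by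
    obtain ⟨U, hU, hzU, -⟩ := exists_isAffineOpen_mem_and_subset (x := z) (U := ⊤) trivial
    let φ : CommRingCat.of K ⟶ Γ(Z, U) := (Scheme.ΓSpecIso (CommRingCat.of K)).inv ≫ p.appLE ⊤ U le_top
    have hiso := ConcreteCategory.bijective_of_isIso (Scheme.ΓSpecIso (CommRingCat.of K)).inv
    have hfu : φ.hom.FormallyUnramified := by
      rw [CommRingCat.hom_comp]
      exact RingHom.FormallyUnramified.comp (RingHom.FormallyUnramified.of_surjective hiso.2)
        (p.formallyUnramified_appLE (isAffineOpen_top _) hU _)
    have hft : φ.hom.FiniteType := by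
      rw [CommRingCat.hom_comp]
      exact (p.finiteType_appLE (isAffineOpen_top _) hU _).comp (RingHom.FiniteType.of_surjective _ hiso.2)
    algebraize [φ.hom]
    haveI : _root_.IsReduced Γ(Z, U) := Algebra.FormallyUnramified.isReduced_of_field K _
    letI := TopCat.Presheaf.algebra_section_stalk Z.presheaf (⟨z, hzU⟩ : U)
    haveI := hU.isLocalization_stalk ⟨z, hzU⟩
    exact isReduced_localizationPreserves (hU.primeIdealOf ⟨z, hzU⟩).asIdeal.primeCompl
      (Z.presheaf.stalk z) inferInstance
  exact isReduced_of_isReduced_stalk Z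

theorem discrete_of_unramified {K : Type u} [Field K] {Z : Scheme.{u}} (p : Z ⟶ Spec (CommRingCat.of K))
    [FormallyUnramified p] [LocallyOfFiniteType p] : DiscreteTopology Z := by
  haveI : LocallyQuasiFinite p := by
    rw [HasRingHomProperty.iff_appLE (P := @LocallyQuasiFinite)]
    intro U V e
    have h1 : (p.appLE U.1 V.1 e).hom.FormallyUnramified := p.formallyUnramified_appLE U.2 V.2 e
    have h2 : (p.appLE U.1 V.1 e).hom.FiniteType := p.finiteType_appLE U.2 V.2 e
    algebraize [(p.appLE U.1 V.1 e).hom]
    exact RingHom.quasiFinite_algebraMap.2 inferInstance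
  obtain ⟨pt⟩ := (inferInstance : Nonempty (Spec (CommRingCat.of K)))
  have := p.isDiscrete_preimage_singleton pt
  have huniv : p ⁻¹' {pt} = Set.univ := Set.eq_univ_of_forall fun z => Subsingleton.elim _ _
  rw [huniv] at this
  exact isDiscrete_univ_iff.1 this

theorem isIso_of_subsingleton {K : Type u} [Field K] [IsAlgClosed K] {Z : Scheme.{u}} [Nonempty Z] [Subsingleton Z]
    [IsReduced Z] [IsAffine Z] (p : Z ⟶ Spec (CommRingCat.of K)) [LocallyOfFiniteType p] : IsIso p := by
  haveI : IrreducibleSpace Z :=
    { toNonempty := inferInstance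
      isPreirreducible_univ := fun u v _ _ ⟨a, _, ha⟩ ⟨b, _, hb⟩ =>
        ⟨a, trivial, ha, Subsingleton.elim b a ▸ hb⟩ }
  haveI : IsIntegral Z := isIntegral_of_irreducibleSpace_of_isReduced _
  let := (isField_of_isIntegral_of_subsingleton Z).toField
  obtain ⟨φ, hφ⟩ := Spec.map_surjective (Z.isoSpec.inv ≫ p)
  haveI : LocallyOfFiniteType (Spec.map φ) := hφ ▸ inferInstance
  have hft : φ.hom.FiniteType := (HasRingHomProperty.Spec_iff (P := @LocallyOfFiniteType)).1 inferInstance
  algebraize [φ.hom]
  haveI : Module.Finite K Γ(Z, ⊤) := finite_of_finite_type_of_isJacobsonRing K _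
  haveI : IsIso φ := (ConcreteCategory.isIso_iff_bijective φ).2
    (IsAlgClosed.algebraMap_bijective_of_isIntegral (k := K) (K := Γ(Z, ⊤)))
  haveI : IsIso (Z.isoSpec.inv ≫ p) := hφ ▸ inferInstance
  exact IsIso.of_isIso_comp_left Z.isoSpec.inv p

theorem unramified_of_discrete {K : Type u} [Field K] [IsAlgClosed K] {Z : Scheme.{u}}
    (p : Z ⟶ Spec (CommRingCat.of K)) [LocallyOfFiniteType p] [IsReduced Z] [DiscreteTopology Z] :
    FormallyUnramified p := by
  refine IsZariskiLocalAtSource.of_iSup_eq_top (P := @FormallyUnramified)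
    (fun z : Z => (⟨{z}, isOpen_discrete _⟩ : Z.Opens)) (eq_top_iff.2 fun z _ => Opens.mem_iSup.2 ⟨z, rfl⟩) fun z => ?_
  set W : Z.Opens := ⟨{z}, isOpen_discrete _⟩
  haveI : Nonempty W := ⟨⟨z, rfl⟩⟩
  haveI : Subsingleton W := ⟨fun a b => Subtype.ext (a.2.trans b.2.symm)⟩
  haveI : IsAffine W.toScheme := by
    obtain ⟨U, hU, hzU, -⟩ := exists_isAffineOpen_mem_and_subset (X := W.toScheme) (x := ⟨z, rfl⟩) (U := ⊤) trivial
    have hUt : U = ⊤ := eq_top_iff.2 fun w _ => (Subsingleton.elim w ⟨z, rfl⟩) ▸ hzU
    subst hUt
    haveI : IsAffine (⊤ : W.toScheme.Opens).toScheme := hU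
    exact IsAffine.of_isIso W.toScheme.topIso.inv
  haveI := isIso_of_subsingleton (W.ι ≫ p)
  infer_instance

theorem unramified_iff {X S : Scheme.{u}} (f : X ⟶ S) [LocallyOfFiniteType f] :
    FormallyUnramified f ↔
      ∀ (K : Type u) [Field K] [IsAlgClosed K] (s : Spec (CommRingCat.of K) ⟶ S),
        IsReduced (pullback f s) ∧ DiscreteTopology ↥(pullback f s) := by
  constructor
  · intro hf K _ _ s
    haveI : FormallyUnramified (pullback.snd f s) := MorphismProperty.pullback_snd (P := @FormallyUnramified) f s hf
    exact ⟨isReduced_of_unramified (pullback.snd f s), discrete_of_unramified (pullback.snd f s)⟩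
  intro H
  have hU : ∀ x : X, ∃ U : X.Opens, x ∈ U ∧ FormallyUnramified (U.ι ≫ f) := by
    intro x
    rw [Groth.Agent.FlatLocus.exists_formallyUnramified_nhd_iff]
    let k := S.residueField (f x)
    let q : Spec (CommRingCat.of (AlgebraicClosure k)) ⟶ Spec (CommRingCat.of k) :=
      Spec.map (CommRingCat.ofHom (algebraMap k (AlgebraicClosure k)))
    haveI : FormallyUnramified (f.fiberToSpecResidueField (f x)) := by
      have hbc : IsPullback (pullback.fst (f.fiberToSpecResidueField (f x)) q ≫ f.fiberι (f x))
          (pullback.snd (f.fiberToSpecResidueField (f x)) q) f (q ≫ S.fromSpecResidueField (f x)) :=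
        (IsPullback.of_hasPullback _ q).paste_horiz (IsPullback.of_hasPullback f (S.fromSpecResidueField (f x)))
      obtain ⟨hr, hd⟩ := H (AlgebraicClosure k) (q ≫ S.fromSpecResidueField (f x))
      haveI := hr
      haveI := hd
      haveI : LocallyOfFiniteType (pullback.snd (f.fiberToSpecResidueField (f x)) q) :=
        MorphismProperty.pullback_snd (P := @LocallyOfFiniteType) _ _
          (show LocallyOfFiniteType (pullback.snd f (S.fromSpecResidueField (f x))) from inferInstance)
      haveI : IsReduced (pullback (f.fiberToSpecResidueField (f x)) q) :=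
        isReduced_of_isOpenImmersion hbc.isoPullback.hom
      haveI : DiscreteTopology ↥(pullback (f.fiberToSpecResidueField (f x)) q) :=
        DiscreteTopology.of_continuous_injective hbc.isoPullback.hom.continuous
          hbc.isoPullback.hom.homeomorph.injective
      haveI := unramified_of_discrete (pullback.snd (f.fiberToSpecResidueField (f x)) q)
      haveI : Surjective q := ⟨fun w => ⟨(inferInstance : Nonempty (Spec (CommRingCat.of (AlgebraicClosure k)))).some, Subsingleton.elim _ _⟩⟩
      haveI : AlgebraicGeometry.Flat q := by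
        rw [HasRingHomProperty.Spec_iff (P := @AlgebraicGeometry.Flat)]
        exact RingHom.flat_algebraMap_iff.2 inferInstance
      exact MorphismProperty.of_pullback_snd_of_descendsAlong (P := @FormallyUnramified)
        (Q := @Surjective ⊓ @AlgebraicGeometry.Flat ⊓ @QuasiCompact) (f := f.fiberToSpecResidueField (f x)) (g := q)
        ⟨⟨inferInstance, inferInstance⟩, inferInstance⟩ inferInstance
    have key := (Groth.Agent.PointBC.formallyUnramified_iff_fibre f (f x) (f.asFiber x)).2
      (FormallyUnramified.stalkMap _ _)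
    rwa [Scheme.Hom.fiberι_asFiber] at key
  choose U hxU hfu using hU
  exact IsZariskiLocalAtSource.of_iSup_eq_top U
    (top_unique fun x _ => Opens.mem_iSup.2 ⟨x, hxU x⟩) hfu

end Groth.Agent.GeomUnrLib
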